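import Cfsg.Agent.PM.Gen
import Cfsg.Agent.S4252
import Cfsg.Agent.S0035
import Cfsg.Agent.S0054
import Cfsg.Agent.S0696

namespace PM
open MulAction Function Subgroup
open scoped Pointwise

variable {G α : Type*} [Group G] [MulAction G α]

/-- regular normal subgroup of a Frobenius-like transitive subgroup -/
theorem frob_kernel [Finite G] [Finite α] [Nontrivial α] [IsPretransitive G α]
    (hs : ∀ a b : α, a ≠ b → ∀ g : G, g • a = a → g • b = b → g = 1) :
    ∃ K : Subgroup G, (∀ g, g ∈ K ↔ g = 1 ∨ ∀ a : α, g • a ≠ a) ∧ IsPretransitive K α := by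
  haveI := Fintype.ofFinite α
  by_cases h : ∃ g : G, g ≠ 1 ∧ ∃ a : α, g • a = a
  · obtain ⟨a⟩ : Nonempty α := inferInstance
    obtain ⟨h1, h2⟩ := Cfsg.Agent.S4252.result Fintype.one_lt_card (exists_smul_eq G) h
      (fun g hg a b h1 h2 => by_contra fun e => hg (hs a b e g h1 h2)) a
    obtain ⟨K, h3, h4, h5⟩ := Cfsg.Agent.S0035.result _ h1
    refine ⟨K, fun g => by rw [← SetLike.mem_coe, h3, h2]; rfl, ?_⟩
    rw [isPretransitive_iff_base a]
    intro x
    obtain ⟨g, rfl⟩ := exists_smul_eq G a x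
    obtain ⟨⟨k, u⟩, rfl⟩ := h5.2 g
    exact ⟨k, by change _ = ((k : G) * u) • a; rw [mul_smul, show (u : G) • a = a from u.2]; rfl⟩
  · push Not at h
    exact ⟨⊤, fun g => ⟨fun _ => (em (g = 1)).imp_right (h g), fun _ => trivial⟩,
      tr_iff.2 fun x y => let ⟨g, e⟩ := exists_smul_eq G x y; ⟨g, trivial, e⟩⟩

/-- version for a normal subgroup -/
theorem frob_kernel' [Finite G] [Finite α] [Nontrivial α] {N : Subgroup G} [hN : N.Normal]
    (ht : IsPretransitive N α)
    (hs : ∀ a b : α, a ≠ b → ∀ g ∈ N, g • a = a → g • b = b → g = 1) :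
    ∃ K : Subgroup G, K.Normal ∧ K ≤ N ∧ IsPretransitive K α ∧ (∀ a : α, stabilizer K a = ⊥) ∧
      ∀ g ∈ N, (∀ a : α, g • a ≠ a) → g ∈ K := by
  obtain ⟨K, h1, h2⟩ := frob_kernel (G := N) (α := α) fun a b hab g h1 h2 =>
    Subtype.ext (hs a b hab g g.2 h1 h2)
  have hm : ∀ g, g ∈ K.map N.subtype ↔ g ∈ N ∧ (g = 1 ∨ ∀ a : α, g • a ≠ a) := fun g =>
    ⟨by
      rintro ⟨g, hg, rfl⟩
      exact ⟨g.2, ((h1 g).1 hg).imp_left (congrArg Subtype.val)⟩,
     fun ⟨h3, h4⟩ => ⟨⟨g, h3⟩, (h1 _).2 (h4.imp_left Subtype.ext), rfl⟩⟩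
  refine ⟨K.map N.subtype, ⟨fun n hn g => ?_⟩, map_subtype_le _, tr_iff.2 fun x y => ?_,
    fun a => sub_stab_bot.2 fun n hn e => ((hm n).1 hn).2.resolve_right fun h => h a e,
    fun g hg h => (hm g).2 ⟨hg, Or.inr h⟩⟩
  · rw [hm] at hn ⊢
    refine ⟨hN.conj_mem _ hn.1 g, hn.2.imp (fun e => by simp [e]) fun h a e => h (g⁻¹ • a) ?_⟩
    rwa [mul_smul, mul_smul, smul_eq_iff_eq_inv_smul] at e
  · obtain ⟨k, hk, e⟩ := tr_iff.1 h2 x y
    exact ⟨k, ⟨k, hk, rfl⟩, e⟩

theorem sharp2 [Finite G] [Finite α] [Nontrivial α] (h2 : IsMultiplyPretransitive G α 2)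
    (hs : ∀ a b : α, a ≠ b → ∀ g : G, g • a = a → g • b = b → g = 1) :
    ∃ (K : Subgroup G) (p j : ℕ), K.Normal ∧ (∀ g, g ∈ K ↔ g = 1 ∨ ∀ a : α, g • a ≠ a) ∧
      IsPretransitive K α ∧ (∀ a : α, stabilizer K a = ⊥) ∧ IsMulCommutative K ∧ p.Prime ∧
      (∀ n ∈ K, n ^ p = 1) ∧ 1 ≤ j ∧ Nat.card α = p ^ j ∧ Nat.card K = p ^ j := by
  haveI := isPretransitive_of_is_two_pretransitive (G := G) (α := α)
  obtain ⟨K, h1, h3, h4, h5, h6⟩ := frob_kernel' (G := G) (α := α) (N := ⊤)
    (tr_iff.2 fun x y => let ⟨g, e⟩ := exists_smul_eq G x y; ⟨g, trivial, e⟩)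
    fun a b hab g _ => hs a b hab g
  obtain ⟨h7, p, hp, h8⟩ := Cfsg.Agent.S0054.result h2 K h4 h5
  obtain ⟨j, hj⟩ := card_of_pow (N := K) hp fun n => Subtype.ext (h8 n n.2)
  have h9 := card_reg h4 (Classical.arbitrary α) (h5 _)
  refine ⟨K, p, j, h1, fun g => ⟨fun hg => (em (g = 1)).imp_right fun g1 a e =>
    g1 (sub_stab_bot.1 (h5 a) g hg e), fun h => h.elim (fun e => e ▸ one_mem K) (h6 g trivial)⟩,
    h4, h5, h7, hp, h8, ?_, h9 ▸ hj, hj⟩
  rcases j with _ | j
  · exact absurd (h9 ▸ hj) (Finite.one_lt_card (α := α)).ne'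
  · omega

instance faith_ofStab [FaithfulSMul G α] (a : α) :
    FaithfulSMul (stabilizer G a) (SubMulAction.ofStabilizer G a) :=
  ⟨fun {x y} h => Subtype.ext (eq_of_smul_eq_smul (α := α) fun b => by
    by_cases hb : b = a
    · rw [hb, x.2, y.2]
    · exact congrArg Subtype.val (h ⟨b, hb⟩))⟩

theorem mt_sub_succ {N : Subgroup G} (ht : IsPretransitive N α) {a : α} {k : ℕ}
    (h : IsMultiplyPretransitive (N.subgroupOf (stabilizer G a)) (SubMulAction.ofStabilizer G a) k) :
    IsMultiplyPretransitive N α (k + 1) := by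
  rw [SubMulAction.ofStabilizer.isMultiplyPretransitive (a := a), mt_iff]
  intro x y hx hy
  obtain ⟨g, hg⟩ := mt_iff.1 h (fun i => ⟨x i, (x i).2⟩) (fun i => ⟨y i, (y i).2⟩)
    (fun i j e => hx (Subtype.ext (congrArg Subtype.val e)))
    (fun i j e => hy (Subtype.ext (congrArg Subtype.val e)))
  exact ⟨⟨⟨g.1.1, g.2⟩, g.1.2⟩, fun i => Subtype.ext (congrArg Subtype.val (hg i))⟩

theorem mt_full [Finite α] (h : IsMultiplyPretransitive G α (Nat.card α - 1)) :
    IsMultiplyPretransitive G α (Nat.card α) := by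
  haveI := Fintype.ofFinite α
  rcases e : Nat.card α with _ | n
  · exact is_zero_pretransitive'
  rw [e] at h
  refine mt_succ h fun s hs a b ha hb => ⟨1, by simp, ?_⟩
  classical
  have : sᶜ.card ≤ 1 := by rw [Finset.card_compl, ← Nat.card_eq_fintype_card]; omega
  rw [one_smul]
  exact Finset.card_le_one.1 this a (by simpa) b (by simpa)

universe u v

theorem jordan_normal : ∀ (k : ℕ) {G : Type u} {α : Type v} [Group G] [MulAction G α] [Finite G]
    [Finite α] [FaithfulSMul G α], k + 2 < Nat.card α → IsMultiplyPretransitive G α (k + 2) →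
    ∀ (N : Subgroup G) [N.Normal], N ≠ ⊥ → IsMultiplyPretransitive N α (k + 1) ∨
      (k = 1 ∧ IsMulCommutative N ∧ ∀ n ∈ N, n ^ 2 = 1) := by
  intro k
  induction k with
  | zero =>
    intro G α _ _ _ _ _ _ h N _ hN
    haveI := isPreprimitive_of_is_two_pretransitive h
    exact Or.inl (is_one_pretransitive_iff.2 (tr_iff.2 (normal_tr' N hN)))
  | succ k ih =>
    intro G α _ _ _ _ _ hn h N _ hN
    haveI := Fintype.ofFinite α
    have h2 : IsMultiplyPretransitive G α 2 := isMultiplyPretransitive_of_le (n := k + 3)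
      (by omega) (by omega)
    haveI := isPreprimitive_of_is_two_pretransitive h2
    have ht : IsPretransitive N α := tr_iff.2 (normal_tr' N hN)
    haveI : Nontrivial α := Finite.one_lt_card_iff_nontrivial.1 (by omega)
    have reg4 : ∀ (K : Subgroup G) [K.Normal], IsPretransitive K α → (∀ a : α, stabilizer K a = ⊥) →
        k = 0 := fun K _ h1 h3 => by
      by_contra hk
      haveI : IsMultiplyPretransitive G α (3 : ℕ).succ :=
        isMultiplyPretransitive_of_le (n := k + 3) (by omega) (by omega)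
      have := Cfsg.Agent.S0696.result (G := G) (X := α) (by rw [← Nat.card_eq_fintype_card]; omega)
        (isMultiplyPreprimitive_of_isMultiplyPretransitive_succ G α (by
          rw [ENat.card_eq_coe_natCard]; exact_mod_cast (by omega))) K h1 h3
      rw [← Nat.card_eq_fintype_card] at this
      omega
    by_cases hr : ∀ a : α, stabilizer N a = ⊥
    · obtain rfl := reg4 N ht hr
      haveI : IsMultiplyPretransitive G α (2 : ℕ).succ := h
      rcases Cfsg.Agent.S0695.result (G := G) (X := α) (by rw [← Nat.card_eq_fintype_card]; omega)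
        (isMultiplyPreprimitive_of_isMultiplyPretransitive_succ G α (by
          rw [ENat.card_eq_coe_natCard]; exact_mod_cast (by omega))) N ht hr with h3 | h3
      · rw [← Nat.card_eq_fintype_card] at h3; omega
      · exact Or.inr ⟨rfl, h3.1, h3.2.1⟩
    push Not at hr
    obtain ⟨a, ha⟩ := hr
    have hc := SubMulAction.nat_card_ofStabilizer_add_one_eq G a
    have h0 : N.subgroupOf (stabilizer G a) ≠ ⊥ := fun e => ha (sub_stab_bot.2 fun n hn e' =>
      congrArg Subtype.val (e.le (show (⟨n, e'⟩ : stabilizer G a) ∈ N.subgroupOf _ from hn)))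
    have h' := SubMulAction.ofStabilizer.isMultiplyPretransitive (a := a).1 h
    rcases ih (by omega) h' (N.subgroupOf (stabilizer G a)) h0 with h3 | ⟨rfl, h3, -⟩
    · exact Or.inl (mt_sub_succ ht h3)
    exfalso
    haveI := isPreprimitive_of_is_two_pretransitive
      (isMultiplyPretransitive_of_le (G := stabilizer G a) (α := SubMulAction.ofStabilizer G a)
        (n := 3) (m := 2) (by omega) (by omega))
    have h4 := tr_iff.2 (normal_tr' (α := SubMulAction.ofStabilizer G a) _ h0)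
    obtain ⟨K, h5, -, h6, h7, -⟩ := frob_kernel' ht fun x y hxy g hg e1 e2 => by
      obtain ⟨u, rfl⟩ := exists_smul_eq G a x
      obtain ⟨y, rfl⟩ := MulAction.surjective u y
      have h8 : u⁻¹ * g * u ∈ stabilizer G a := by
        rw [mem_stabilizer_iff, mul_smul, mul_smul, e1, inv_smul_smul]
      have := eq_one_of_comm h4 (c := ⟨_, h8⟩) (fun n hn => congrArg Subtype.val
        (h3.is_comm.comm (⟨n, hn⟩ : N.subgroupOf (stabilizer G a))
          ⟨⟨_, h8⟩, ‹N.Normal›.conj_mem' g hg u⟩))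
        (a := ⟨y, fun e => hxy (congrArg _ e.symm)⟩) (Subtype.ext (by
          change (u⁻¹ * g * u) • y = y
          rw [mul_smul, mul_smul, e2, inv_smul_smul]))
      have h9 : u⁻¹ * g * u = 1 := congrArg Subtype.val this
      calc g = u * (u⁻¹ * g * u) * u⁻¹ := by group
        _ = 1 := by rw [h9]; group
    exact absurd (reg4 K h6 h7) one_ne_zero

theorem prim_normal : ∀ (k : ℕ) {G : Type u} {α : Type v} [Group G] [MulAction G α] [Finite G]
    [Finite α] [FaithfulSMul G α], k + 1 ≤ Nat.card α → IsMultiplyPreprimitive G α (k + 1) →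
    ¬ IsMultiplyPretransitive G α (Nat.card α) →
    ∀ (N : Subgroup G) [N.Normal], (∃ a : α, stabilizer N a ≠ ⊥) →
      IsMultiplyPretransitive N α (k + 1) := by
  intro k
  have h00 : ∀ {G : Type u} {α : Type v} [Group G] [MulAction G α] (N : Subgroup G),
      (∃ a : α, stabilizer N a ≠ ⊥) → N ≠ ⊥ := by
    rintro G α _ _ N ⟨a, ha⟩ rfl
    exact ha (Subsingleton.elim _ _)
  induction k with
  | zero =>
    intro G α _ _ _ _ _ _ h _ N _ hN
    haveI := (is_one_preprimitive_iff G α).1 h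
    exact is_one_pretransitive_iff.2 (tr_iff.2 (normal_tr' N (h00 N hN)))
  | succ k ih =>
    intro G α _ _ _ _ _ hn h hf N _ hN
    haveI := Fintype.ofFinite α
    have hle : ∀ m, m ≤ k + 2 → IsMultiplyPreprimitive G α m := fun m hm =>
      isMultiplyPreprimitive_of_le G α h hm (by rw [ENat.card_eq_coe_natCard]; exact_mod_cast hn)
    haveI := (is_one_preprimitive_iff G α).1 (hle 1 (by omega))
    have ht : IsPretransitive N α := tr_iff.2 (normal_tr' N (h00 N hN))
    haveI : Nontrivial α := Finite.one_lt_card_iff_nontrivial.1 (by omega)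
    obtain ⟨a, ha⟩ := hN
    have hc := SubMulAction.nat_card_ofStabilizer_add_one_eq G a
    have h0 : N.subgroupOf (stabilizer G a) ≠ ⊥ := fun e => ha (sub_stab_bot.2 fun n hn e' =>
      congrArg Subtype.val (e.le (show (⟨n, e'⟩ : stabilizer G a) ∈ N.subgroupOf _ from hn)))
    have h' := isMultiplyPreprimitive_ofStabilizer G α (a := a) (n := k + 1)
    by_cases hr : ∃ b : SubMulAction.ofStabilizer G a,
      stabilizer (N.subgroupOf (stabilizer G a)) b ≠ ⊥
    · refine mt_sub_succ ht (ih (by omega) h' (fun e => hf ?_) _ hr)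
      rw [← hc]
      exact SubMulAction.ofStabilizer.isMultiplyPretransitive.2 e
    push Not at hr
    haveI := (is_one_preprimitive_iff _ _).1 (isMultiplyPreprimitive_of_le _ _ h' (m := 1) (by omega)
      (by rw [ENat.card_eq_coe_natCard]; exact_mod_cast (by omega)))
    have h4 := tr_iff.2 (normal_tr' (α := SubMulAction.ofStabilizer G a) _ h0)
    rcases k with _ | k
    · exact mt_sub_succ ht (is_one_pretransitive_iff.2 h4)
    exfalso
    obtain ⟨K, h5, -, h6, h7, -⟩ := frob_kernel' ht fun x y hxy g hg e1 e2 => by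
      obtain ⟨u, rfl⟩ := exists_smul_eq G a x
      obtain ⟨y, rfl⟩ := MulAction.surjective u y
      have h8 : u⁻¹ * g * u ∈ stabilizer G a := by
        rw [mem_stabilizer_iff, mul_smul, mul_smul, e1, inv_smul_smul]
      have := sub_stab_bot.1 (hr ⟨y, fun e => hxy (congrArg _ e.symm)⟩) ⟨_, h8⟩
        (‹N.Normal›.conj_mem' g hg u) (Subtype.ext (by
          change (u⁻¹ * g * u) • y = y
          rw [mul_smul, mul_smul, e2, inv_smul_smul]))
      have h9 : u⁻¹ * g * u = 1 := congrArg Subtype.val this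
      calc g = u * (u⁻¹ * g * u) * u⁻¹ := by group
        _ = 1 := by rw [h9]; group
    have h3 := hle 3 (by omega)
    have h3' : IsMultiplyPretransitive G α 3 := inferInstance
    apply hf
    rcases Cfsg.Agent.S0696.result (G := G) (X := α) (by rw [← Nat.card_eq_fintype_card]; omega)
      h3 K h6 h7 with e | e <;> rw [← Nat.card_eq_fintype_card] at e
    · rwa [e]
    · exact mt_full (by rwa [e])

end PM
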