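import Cfsg.Agent.PM.Fr

namespace PM
open MulAction Function Subgroup
open scoped Pointwise

variable {G α : Type*} [Group G] [MulAction G α]

theorem Gen.dvd [Finite G] [Fintype α] {k : ℕ} (hk : k < Fintype.card α) (h : Gen G α k) {p : ℕ}
    (hp : p.Prime) (hpk : p ≤ k) (Γ : Finset α) (hΓ : Γ.card = k) (f : Fin p → α)
    (hf : ∀ i, f i ∉ Γ)
    (hdist : ∀ i j, i ≠ j → f j ∉ MulAction.orbit (fixingSubgroup G (Γ : Set α)) (f i)) :
    ∃ i, p ∣ Nat.card (MulAction.orbit (fixingSubgroup G (Γ : Set α)) (f i)) := by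
  classical
  haveI := Fact.mk hp
  by_contra hc
  push Not at hc
  obtain ⟨S, hS, hSc⟩ := Finset.exists_subset_card_eq (s := Γ) (n := p) (by omega)
  let K := fixingSubgroup G (Γ : Set α)
  let L : Subgroup G := fixingSubgroup G ((Γ \ S : Finset α) : Set α) ⊓ stabilizer G Γ
  have hL : ∀ g : G, g ∈ L ↔ (∀ x ∈ Γ \ S, g • x = x) ∧ g • Γ = Γ := fun g => by
    simp only [L, Subgroup.mem_inf, mem_fixingSubgroup_iff, mem_stabilizer_iff, Finset.mem_coe]
  obtain ⟨s, hs⟩ : S.Nonempty := Finset.card_pos.1 (hSc ▸ hp.pos)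
  have hKL : K ≤ L ⊓ stabilizer G s := fun g hg => by
    have := (mem_fixingSubgroup_iff G).1 hg
    refine ⟨(hL g).2 ⟨fun x hx => this x (Finset.mem_sdiff.1 hx).1, ?_⟩, this s (hS hs)⟩
    ext x
    rw [← Finset.inv_smul_mem_iff]
    exact ⟨fun h => by rw [← smul_inv_smul g x, this _ h]; exact h,
      fun h => by rw [(mem_fixingSubgroup_iff G).1 (inv_mem hg) x h]; exact h⟩
  have horb : orbit L s = S := by
    ext x
    constructor
    · rintro ⟨⟨g, hg⟩, rfl⟩
      obtain ⟨h1, h2⟩ := (hL g).1 hg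
      change g • s ∈ S
      by_contra h3
      have h4 : g • s ∈ Γ := h2 ▸ Finset.smul_mem_smul_finset (hS hs)
      have := h1 _ (Finset.mem_sdiff.2 ⟨h4, h3⟩)
      rw [smul_left_cancel_iff] at this
      exact h3 (this.symm ▸ hs)
    · intro hx
      obtain ⟨g, hg⟩ := exists_ext (h.mt hk) Γ hΓ (Equiv.swap s x) (Equiv.injective _).injOn
      refine ⟨⟨g, (hL g).2 ⟨fun y hy => ?_, ?_⟩⟩, ?_⟩
      · rw [Finset.mem_sdiff] at hy
        rw [hg y hy.1, Equiv.swap_apply_of_ne_of_ne (ne_of_mem_of_not_mem hs hy.2).symm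
          (ne_of_mem_of_not_mem hx hy.2).symm]
      · apply Finset.eq_of_subset_of_card_le _ (Finset.card_smul_finset g Γ).ge
        intro y hy
        obtain ⟨z, hz, rfl⟩ := Finset.mem_smul_finset.1 hy
        rw [hg z hz, Equiv.swap_apply_def]
        split_ifs
        exacts [hS hx, hS hs, hz]
      · change g • s = x
        rw [hg s (hS hs), Equiv.swap_apply_left]
  have h1 := card_orbit_sub L s
  rw [horb, Nat.card_coe_set_eq, Set.ncard_coe_finset, hSc] at h1
  have h2 : p * Nat.card K ∣ Nat.card L := h1 ▸ mul_dvd_mul_left _ (Subgroup.card_dvd_of_le hKL)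
  obtain ⟨R⟩ : Nonempty (Sylow p L) := inferInstance
  let R' : Subgroup G := (R : Subgroup L).map L.subtype
  have hR : R' ≤ L := Subgroup.map_subtype_le _
  have hfix : ∀ i, ∃ x ∈ orbit K (f i), ∀ g ∈ R', g • x = x := fun i => by
    obtain ⟨x, hx, e⟩ := exists_fix hp (R.2.map L.subtype) (orbit K (f i)).toFinite.toFinset (by
      intro g hg x hx
      rw [Set.Finite.mem_toFinset] at hx ⊢
      obtain ⟨u, rfl⟩ := hx
      obtain ⟨v, h3, h4⟩ := h.orb hΓ (hf i) (g := g * u) (by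
        rw [mul_smul, ((hL _).1 (hKL u.2).1).2, ((hL _).1 (hR hg)).2])
      exact ⟨⟨v, (mem_fixingSubgroup_iff G).2 h3⟩, h4.trans (mul_smul _ _ _)⟩) (by
      rw [← Set.ncard_eq_toFinset_card, ← Nat.card_coe_set_eq]; exact hc i)
    exact ⟨x, (Set.Finite.mem_toFinset _).1 hx, e⟩
  choose δ hδ hδ' using hfix
  have hinj : Function.Injective δ := fun i j e => by
    by_contra hij
    apply hdist i j hij
    rw [← orbit_eq_iff.2 (hδ i), e, orbit_eq_iff.2 (hδ j)]
    exact mem_orbit_self _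
  have hδΓ : ∀ i, δ i ∉ Γ := fun i hi => by
    obtain ⟨u, e⟩ := hδ i
    have := (mem_fixingSubgroup_iff G).1 u.2 _ hi
    change (u : G) • f i = δ i at e
    rw [← e, smul_left_cancel_iff] at this
    rw [← e, this] at hi
    exact hf i hi
  let Γ' := (Γ \ S) ∪ Finset.univ.image δ
  have hΓ' : Γ'.card = k := by
    rw [Finset.card_union_of_disjoint, Finset.card_sdiff_of_subset hS, Finset.card_image_of_injective _ hinj]
    · simp; omega
    · rw [Finset.disjoint_right]
      intro x hx hx'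
      obtain ⟨i, -, rfl⟩ := Finset.mem_image.1 hx
      exact hδΓ i (Finset.mem_sdiff.1 hx').1
  have h3 : R' ≤ fixingSubgroup G (Γ' : Set α) := fun g hg => (mem_fixingSubgroup_iff G).2 fun x hx => by
    rcases Finset.mem_union.1 hx with hx | hx
    · exact ((hL g).1 (hR hg)).1 x hx
    · obtain ⟨i, -, rfl⟩ := Finset.mem_image.1 hx
      exact hδ' i g hg
  have h4 := Subgroup.card_dvd_of_le h3
  rw [card_fix_eq (h.mt hk) hΓ' hΓ, Subgroup.card_map_of_injective L.subtype_injective,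
    R.card_eq_multiplicity, hp.pow_dvd_iff_le_factorization Nat.card_pos.ne'] at h4
  have h5 := (Nat.factorization_le_iff_dvd (mul_ne_zero hp.ne_zero Nat.card_pos.ne') Nat.card_pos.ne').2 h2 p
  rw [Nat.factorization_mul hp.ne_zero Nat.card_pos.ne', hp.factorization] at h5
  simp only [Finsupp.coe_add, Pi.add_apply, Finsupp.single_eq_same] at h5
  change _ ≤ (Nat.card K).factorization p at h4
  omega


theorem gen_of_swap {k : ℕ} [DecidableEq α] (h : ∀ s : Finset α, s.card = k + 1 → ∀ a ∈ s, ∀ b ∈ s,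
    a ≠ b → ∃ g : G, ∀ x ∈ s, g • x = Equiv.swap a b x) : Gen G α k := by
  intro s hs σ
  induction σ using Equiv.Perm.swap_induction_on with
  | one => exact ⟨1, fun x => one_smul _ _⟩
  | swap_mul f x y hxy ih =>
    obtain ⟨g, hg⟩ := ih
    obtain ⟨u, hu⟩ := h s hs x x.2 y y.2 fun e => hxy (Subtype.ext e)
    refine ⟨u * g, fun z => ?_⟩
    rw [mul_smul, hg, hu _ (f z).2, Equiv.Perm.mul_apply]
    exact Subtype.val_injective.swap_apply x y (f z)

/-- a `p`-element with the same effect -/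
theorem exists_swap_fix [Finite G] [Fintype α] (hodd : Odd (Fintype.card α)) {g : G} {a b : α}
    (hab : a ≠ b) (h1 : g • a = b) (h2 : g • b = a) :
    ∃ u ∈ zpowers g, ∃ c : α, u • a = b ∧ u • b = a ∧ u • c = c := by
  obtain ⟨j, m, hm, e⟩ := Nat.exists_eq_two_pow_mul_odd (orderOf_pos g).ne'
  have h3 : ∀ i : ℕ, (g ^ (2 * i + 1)) • a = b ∧ (g ^ (2 * i + 1)) • b = a := fun i => by
    induction i with
    | zero => simpa using ⟨h1, h2⟩
    | succ i ih =>
      rw [show 2 * (i + 1) + 1 = 2 * i + 1 + 1 + 1 by ring, pow_succ, pow_succ]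
      simp only [mul_smul, h1, h2]
      exact ih
  obtain ⟨i, rfl⟩ := hm
  have hP : IsPGroup 2 (zpowers (g ^ (2 * i + 1))) := by
    rintro ⟨_, n, rfl⟩
    refine ⟨j, Subtype.ext ?_⟩
    change ((g ^ (2 * i + 1)) ^ n) ^ 2 ^ j = 1
    have : (g ^ (2 * i + 1)) ^ 2 ^ j = 1 := by rw [← pow_mul, mul_comm, ← e, pow_orderOf_eq_one]
    rw [← zpow_natCast, ← zpow_mul, mul_comm n, zpow_mul, zpow_natCast, this, one_zpow]
  obtain ⟨c, -, hc⟩ := exists_fix Nat.prime_two hP (Finset.univ : Finset α) (by simp)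
    (by rw [Finset.card_univ]; exact hodd.not_two_dvd_nat)
  exact ⟨_, pow_mem (mem_zpowers g) _, c, (h3 i).1, (h3 i).2, hc _ (mem_zpowers _)⟩

end PM
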