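import Cfsg.Agent.PM.Pr
import Cfsg.Agent.PM.Gen2
import Cfsg.Agent.S0672

namespace PM
open MulAction Function Subgroup Cfsg
open scoped Pointwise

variable {G α : Type*} [Group G] [MulAction G α] {p : ℕ} [hp : Fact p.Prime]

theorem pow_coord {c : G} {e : ZMod p ≃ α} (he : ∀ j, c • e j = e (j + 1)) (n : ℕ) (j : ZMod p) :
    c ^ n • e j = e (j + n) := by
  induction n with
  | zero => simp
  | succ n ih => rw [pow_succ', mul_smul, ih, he, Nat.cast_succ, add_assoc]

theorem tr_coord {c : G} {e : ZMod p ≃ α} (he : ∀ j, c • e j = e (j + 1)) :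
    IsPretransitive (zpowers c) α := tr_iff.2 fun x y => by
  obtain ⟨x, rfl⟩ := e.surjective x
  obtain ⟨y, rfl⟩ := e.surjective y
  exact ⟨c ^ (y - x).val, pow_mem (mem_zpowers c) _, by rw [pow_coord he]; simp⟩

theorem sylow_coord [Finite G] [Finite α] [FaithfulSMul G α] [IsPretransitive G α]
    (h : Nat.card α = p) (P : Sylow p G) : ∃ (c : G) (e : ZMod p ≃ α), orderOf c = p ∧
      (P : Subgroup G) = zpowers c ∧ ∀ j, c • e j = e (j + 1) := by
  haveI : Nontrivial α := Finite.one_lt_card_iff_nontrivial.1 (h ▸ hp.out.one_lt)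
  have ht := sylow_tr (f := 1) (by rw [h, pow_one]) P
  haveI : Nontrivial (P : Subgroup G) := by
    obtain ⟨a, b, hab⟩ := exists_pair_ne α
    obtain ⟨g, e⟩ := ht.exists_smul_eq a b
    exact ⟨g, 1, fun e' => hab (by rw [← e, e', one_smul])⟩
  haveI := P.2.center_nontrivial
  obtain ⟨n, hn, e⟩ := (P.2.to_subgroup (center P)).nontrivial_iff_card.1 inferInstance
  obtain ⟨z, hz⟩ := exists_prime_orderOf_dvd_card' (G := center (P : Subgroup G)) p
    (e ▸ dvd_pow_self p hn.ne')
  have hc : orderOf (z.1.1 : G) = p := by rw [orderOf_coe, orderOf_coe, hz]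
  obtain ⟨b, hb⟩ := exists_move (α := α) (g := z.1.1) (by
    intro e; rw [e, orderOf_one] at hc; exact hp.out.one_lt.ne hc)
  obtain ⟨e, he⟩ := coord_of hc h hb
  refine ⟨_, e, hc, le_antisymm (fun g hg => ?_) (zpowers_le.2 z.1.2), he⟩
  refine mem_of_comm (tr_coord he) (tr_coord he) ?_ ?_
  · rintro _ ⟨i, rfl⟩ _ ⟨j, rfl⟩
    exact (Commute.zpow_zpow_self _ i j).eq
  · rintro _ ⟨i, rfl⟩
    have : Commute (z.1.1 : G) g := (congrArg Subtype.val (mem_center_iff.1 z.2 ⟨g, hg⟩)).symm
    exact (this.zpow_left i).eq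

theorem affine_of_norm [Finite G] {c g : G} {e : ZMod p ≃ α} (he : ∀ j, c • e j = e (j + 1))
    (hg : g * c * g⁻¹ ∈ zpowers c) : ∃ a b, ∀ x, g • e x = e (a * x + b) := by
  obtain ⟨i, hi⟩ := (mem_powers_iff_mem_zpowers.2 hg : _ ∈ Submonoid.powers c)
  refine ⟨i, e.symm (g • e 0), fun x => ?_⟩
  have h1 := pow_coord he x.val 0
  rw [zero_add, ZMod.natCast_zmod_val] at h1
  have h2 : g * c ^ x.val = c ^ (i * x.val) * g := by
    rw [pow_mul, show c ^ i = _ from hi, conj_pow]; group
  rw [← h1, ← mul_smul, h2, mul_smul, ← e.apply_symm_apply (g • e 0), pow_coord he]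
  simp [add_comm]

theorem affine_of_norm' [Finite G] {c : G} {P : Subgroup G} (h2 : P = zpowers c) {e : ZMod p ≃ α}
    (he : ∀ j, c • e j = e (j + 1)) (g : normalizer (P : Set G)) :
    ∃ a b, ∀ x, (g : G) • e x = e (a * x + b) := by
  subst h2
  exact affine_of_norm he ((mem_normalizer_iff.1 g.2 c).1 (mem_zpowers c))

theorem mem_of_transl [Finite G] [FaithfulSMul G α] {c g : G} {e : ZMod p ≃ α}
    (he : ∀ j, c • e j = e (j + 1)) {b : ZMod p} (h : ∀ x, g • e x = e (x + b)) : g ∈ zpowers c := by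
  have : g = c ^ b.val := eq_of_smul_eq_smul (α := α) fun x => by
    obtain ⟨x, rfl⟩ := e.surjective x
    rw [h, pow_coord he]; simp
  exact this ▸ pow_mem (mem_zpowers c) _

theorem card_norm [Finite G] [Finite α] [FaithfulSMul G α] [IsPretransitive G α]
    (h : Nat.card α = p) (P : Sylow p G) : Nat.card P = p ∧
      ∃ d, d ∣ p - 1 ∧ Nat.card (normalizer ((P : Subgroup G) : Set G)) = p * d := by
  obtain ⟨c, e, h1, h2, he⟩ := sylow_coord h P
  have hP : Nat.card P = p := by
    change Nat.card (P : Subgroup G) = p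
    rw [h2, Nat.card_zpowers, h1]
  refine ⟨hP, ?_⟩
  choose a b hab using affine_of_norm' h2 he
  have u : ∀ (g : normalizer ((P : Subgroup G) : Set G)) a' b', (∀ x, (g : G) • e x = e (a' * x + b')) → a g = a' := fun g a' b' h' => by
    have h0 := e.injective ((hab g 0).symm.trans (h' 0))
    have h1 := e.injective ((hab g 1).symm.trans (h' 1))
    linear_combination h1 - h0
  let φ : normalizer ((P : Subgroup G) : Set G) →* ZMod p :=
    { toFun := a
      map_one' := u 1 1 0 fun x => by simp
      map_mul' := fun x y => u _ _ (a x * b y + b x) fun z => by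
        rw [Subgroup.coe_mul, mul_smul, hab, hab]; congr 1; ring }
  have hk : φ.toHomUnits.ker = (P : Subgroup G).subgroupOf _ := by
    ext g
    rw [mem_subgroupOf, MonoidHom.mem_ker, SetLike.ext_iff.1 h2]
    constructor
    · intro hg
      have hx : a g = 1 := congrArg Units.val hg
      exact mem_of_transl he (b := b g) fun x => by rw [hab, hx, one_mul]
    · intro hg
      obtain ⟨i, hi⟩ := (mem_powers_iff_mem_zpowers.2 hg : _ ∈ Submonoid.powers c)
      exact Units.ext (u g 1 i fun x => by rw [← show c ^ i = _ from hi, pow_coord he, one_mul])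
  refine ⟨Nat.card φ.toHomUnits.range, ?_, ?_⟩
  · rw [← ZMod.card_units p, ← Nat.card_eq_fintype_card]; exact card_subgroup_dvd_card _
  · rw [← index_ker, ← φ.toHomUnits.ker.card_mul_index, hk,
      Nat.card_congr (subgroupOfEquivOfLe le_normalizer).toEquiv, hP]

theorem inv_coord [Finite G] [Finite α] [FaithfulSMul G α] [IsPretransitive G α]
    (h : Nat.card α = p) (p2 : p ≠ 2) (P : Sylow p G)
    (heven : Even (Nat.card (normalizer ((P : Subgroup G) : Set G)))) :
    ∃ (c t : G) (e : ZMod p ≃ α), (∀ j, c • e j = e (j + 1)) ∧ ∀ j, t • e j = e (-j) := by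
  obtain ⟨c, e, h1, h2, he⟩ := sylow_coord h P
  obtain ⟨t, ht⟩ := exists_prime_orderOf_dvd_card' 2 heven.two_dvd
  obtain ⟨a, b, hab⟩ := affine_of_norm' h2 he t
  have tt : ∀ x, a * (a * x + b) + b = x := fun x => e.injective (by
    rw [← hab, ← hab, ← mul_smul, ← sq, ← Subgroup.coe_pow, ← ht, pow_orderOf_eq_one]; simp)
  have t0 : (2 : ZMod p) ≠ 0 := fun e => p2 ((Nat.prime_dvd_prime_iff_eq hp.out Nat.prime_two).1
    ((ZMod.natCast_eq_zero_iff 2 p).1 (by exact_mod_cast e)))
  have ha : a = -1 := by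
    have h3 : (a - 1) * (a + 1) = 0 := by linear_combination tt 1 - tt 0
    rcases mul_eq_zero.1 h3 with h4 | h4
    · exfalso
      obtain rfl : a = 1 := by linear_combination h4
      obtain rfl : b = 0 := mul_left_cancel₀ t0 (by linear_combination tt 0)
      have : t = 1 := Subtype.ext (eq_of_smul_eq_smul (α := α) fun x => by
        obtain ⟨x, rfl⟩ := e.surjective x
        rw [hab]; simp)
      rw [this] at ht; simp at ht
    · linear_combination h4
  refine ⟨c, t, (Equiv.addRight (b / 2)).trans e, fun j => ?_, fun j => ?_⟩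
  · simp only [Equiv.trans_apply, Equiv.coe_addRight, he]; congr 1; ring
  · simp only [Equiv.trans_apply, Equiv.coe_addRight, hab, ha]; congr 1; field_simp; ring

theorem ne_two_of [Finite G] [Finite α] [FaithfulSMul G α] (h : Nat.card α = p)
    (hG : ¬ Group.IsSolvable G) : p ≠ 2 := by
  rintro rfl
  haveI := Fintype.ofFinite α
  classical
  have h1 := card_dvd_of_injective (toPermHom G α) toPerm_injective
  rw [Nat.card_perm, h] at h1
  apply hG
  haveI : IsCyclic G := isCyclic_of_card_dvd_prime (p := 2) h1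
  infer_instance

theorem neumann [Finite G] [Fintype α] [FaithfulSMul G α] [IsPretransitive G α]
    (h : Nat.card α = p) (hG : ¬ Group.IsSolvable G) (P : Sylow p G)
    (heven : Even (Nat.card (normalizer ((P : Subgroup G) : Set G)))) :
    IsMultiplyPretransitive G α 3 := by
  classical
  have p2 := ne_two_of h hG
  have h2 := burnside h hG
  obtain ⟨c, t, e, he, ht⟩ := inv_coord h p2 P heven
  have t0 : (2 : ZMod p) ≠ 0 := fun e => p2 ((Nat.prime_dvd_prime_iff_eq hp.out Nat.prime_two).1
    ((ZMod.natCast_eq_zero_iff 2 p).1 (by exact_mod_cast e)))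
  refine Cfsg.Agent.S0672.result (K := ZMod p) (p := p) h2 (by rw [← Nat.card_eq_fintype_card, h])
    (fun a => ?_) fun f hf => ?_
  · haveI : IsPretransitive (stabilizer G a) (SubMulAction.ofStabilizer G a) :=
      is_one_pretransitive_iff.1 (SubMulAction.ofStabilizer.isMultiplyPretransitive.1 h2)
    have h3 := SubMulAction.nat_card_ofStabilizer_add_one_eq G a
    have h4 := hp.out.two_le
    haveI : Nonempty (SubMulAction.ofStabilizer G a) := (Nat.card_pos_iff.1 (by omega)).1
    rw [← card_mul_stab (G := stabilizer G a) (Classical.arbitrary (SubMulAction.ofStabilizer G a))]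
    refine Even.mul_right ?_ _
    obtain ⟨m, hm⟩ := hp.out.odd_of_ne_two p2
    exact ⟨m, by omega⟩
  let W : Subrepresentation (permRep (ZMod p) G α) :=
    { toSubmodule := (LinearMap.ker f.toLinearMap).map (Submodule.subtype _)
      apply_mem_toSubmodule := by
        rintro g _ ⟨v, hv, rfl⟩
        refine ⟨(permSumZero (ZMod p) G α).toRepresentation g v, ?_, rfl⟩
        have := LinearMap.congr_fun (f.isIntertwining' g) v
        change f.toLinearMap _ = 0
        rw [LinearMap.comp_apply] at this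
        rw [this, LinearMap.comp_apply, show f.toLinearMap v = 0 from hv, map_zero] }
  have hc : (permConstants (ZMod p) G α).toSubmodule ≤ (permSumZero (ZMod p) G α).toSubmodule := by
    intro v hv
    obtain ⟨c, hc⟩ := mem_const.1 hv
    simp [mem_sz, hc, ← Nat.card_eq_fintype_card, h]
  have hX : (fun x => e.symm x) ∈ (permSumZero (ZMod p) G α).toSubmodule := by
    rw [mem_sz, Equiv.sum_comp e.symm (fun x => x)]
    simpa using FiniteField.sum_pow_lt_card_sub_one (ZMod p) 1 (by
      have := hp.out.two_le; rw [ZMod.card]; omega)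
  have fi : ∀ (g : G) v y, f ((permSumZero (ZMod p) G α).toRepresentation g v) y = f v (g⁻¹ • y) :=
    fun g v y => congrFun (LinearMap.congr_fun (f.isIntertwining' g) v) y
  rcases heart_irr h hG W (fun v hv => ⟨⟨v, hc hv⟩, hf _ hv, rfl⟩) (by
    rintro _ ⟨v, -, rfl⟩; exact v.2) with h3 | h3
  · exfalso
    have k1 : ∀ (n : ℕ) y, f ⟨_, hX⟩ (c ^ n • y) = f ⟨_, hX⟩ y := fun n y => by
      have := fi (c ^ n)⁻¹ ⟨_, hX⟩ y
      rw [inv_inv] at this
      rw [← this, ← sub_eq_zero, ← Pi.sub_apply, ← map_sub, hf]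
      · rfl
      refine mem_const.2 ⟨n, fun x => ?_⟩
      obtain ⟨x, rfl⟩ := e.surjective x
      change e.symm ((c ^ n)⁻¹⁻¹ • e x) - e.symm (e x) = n
      rw [inv_inv, pow_coord he]; simp
    have k2 : ∀ y, f ⟨_, hX⟩ (t • y) = -f ⟨_, hX⟩ y := fun y => by
      have := fi t⁻¹ ⟨_, hX⟩ y
      rw [inv_inv] at this
      rw [← this, ← Pi.neg_apply, ← map_neg]
      refine congrArg (fun v => f v y) (Subtype.ext (funext fun x => ?_))
      obtain ⟨x, rfl⟩ := e.surjective x
      change e.symm (t⁻¹⁻¹ • e x) = -e.symm (e x)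
      rw [inv_inv, ht]; simp
    have k3 : f ⟨_, hX⟩ = 0 := funext fun y => by
      obtain ⟨u, v, -, huv⟩ := Finset.card_eq_two.1 y.2
      obtain ⟨u, rfl⟩ := e.surjective u
      obtain ⟨v, rfl⟩ := e.surjective v
      have : t • y = c ^ (-u - v).val • y := Subtype.ext (by
        simp only [Set.powersetCard.coe_smul, huv, Finset.smul_finset_insert,
          Finset.smul_finset_singleton, ht, pow_coord he, ZMod.natCast_zmod_val]
        rw [Finset.pair_comm]; congr 2 <;> ring_nf)
      have h5 := k2 y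
      rw [this, k1] at h5
      exact mul_left_cancel₀ t0 (by rw [Pi.zero_apply]; linear_combination h5)
    have : (fun x => e.symm x) ∈ W.toSubmodule := ⟨⟨_, hX⟩, k3, rfl⟩
    rw [h3] at this
    obtain ⟨c, hc⟩ := mem_const.1 this
    have := (hc (e 0)).trans (hc (e 1)).symm
    simp at this
  · ext v y
    have : (v : α → ZMod p) ∈ W.toSubmodule := by rw [h3]; exact v.2
    obtain ⟨w, hw, e⟩ := this
    obtain rfl : w = v := Subtype.ext e
    exact congrFun hw y

end PM
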